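import Cfsg.Agent.H861.Gen.CoOne

/-!
# `Co1`: explicit pairs of conjugate elements (helper171, S3509)

For the classes 3B, 3C, 3D, 5A, 5B, 5C, 7A, 7B (letters `4`, `5`, `6`, `[7, 7, 9]`, `7`, `8`, `10`, `11` of
`H861/Gen/CoOneCert`): two conjugates generate `Co1`; 2B, 2C invert an element of order 11; 3A is in a subgroup `A₄`
with involutions in 2B.
-/

set_option autoImplicit false
set_option maxRecDepth 100000

namespace Cfsg.Agent.H171.RG.Co1

open Cfsg Subgroup Cfsg.Agent.SporadicA Cfsg.Agent.SporadicStructure.Co0Matrix Cfsg.Agent.CoOneType.CoEval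
open Cfsg.Agent.LThreeCo1.Ev Cfsg.Agent.H861.Gen.CoEv Cfsg.Agent.H147.Gen Cfsg.Agent.H940 Cfsg.Agent.H940.Eng Cfsg.Agent.H147.Fpr
open Cfsg.Agent.H861.Gen.CoOne
open Cfsg.Spor (Co1)

/-- the check: `gi` is the inverse of `gw`, words in `c` and `g c g⁻¹` of orders `23` and `13 k` -/
def ck (cw gw gi : List ℕ) (w23 w13 : List Bool) (k : ℕ) : Bool :=
  ((((neP M cw 1 && relP M (gi ++ gw) 1) && relP M (sub cw (gi ++ cw ++ gw) w23) 23) &&
    neP M (sub cw (gi ++ cw ++ gw) w23) 1) && relP M (sub cw (gi ++ cw ++ gw) w13) (k * 13)) &&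
    neP M (sub cw (gi ++ cw ++ gw) w13) k

theorem V_conj {cw gw gi : List ℕ} (h : relP M (gi ++ gw) 1 = true) :
    V e (gi ++ cw ++ gw) = V e gw * V e cw * (V e gw)⁻¹ := by
  have h1 := pow_eq_one_of_relP hM h
  rw [pow_one, V_append] at h1
  rw [V_append, V_append, ← mul_assoc, (inv_eq_of_mul_eq_one_right h1).symm]

theorem two_of_ck (B : Base) {cw gw gi : List ℕ} {w23 w13 : List Bool} {k : ℕ} (h : ck cw gw gi w23 w13 k = true) :
    V e cw ≠ 1 ∧ closure {V e cw, V e gw * V e cw * (V e gw)⁻¹} = ⊤ := by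
  have := CoOne.fin
  unfold ck at h
  simp only [Bool.and_eq_true] at h
  obtain ⟨⟨⟨⟨⟨h1, h2⟩, h3⟩, h4⟩, h5⟩, h6⟩ := h
  have g1 := pow_ne_one_of_neP hM h1
  have g3 := pow_eq_one_of_relP hM h3
  have g4 := pow_ne_one_of_neP hM h4
  have g5 := pow_eq_one_of_relP hM h5
  have g6 := pow_ne_one_of_neP hM h6
  rw [pow_one] at g1 g4
  rw [← V_conj h2]
  refine ⟨g1, gen_of B ?_ ?_⟩
  · exact H147.Fpr.dvd_card_of_mem (w := V e (sub cw (gi ++ cw ++ gw) w23)) (m := 1) (sub_mem _ _ _) (by norm_num)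
      (by rw [one_mul, g3]) (by rw [pow_one]; exact g4)
  · exact H147.Fpr.dvd_card_of_mem (w := V e (sub cw (gi ++ cw ++ gw) w13)) (m := k) (sub_mem _ _ _) (by norm_num) g5 g6

theorem k3C : ck [4] [19] [18] [false, false, true, false, true] [false, false, true] 2 = true := by decide +kernel

theorem k3D : ck [5] [23, 26] [10, 22] [false, false, true] [false, true] 3 = true := by decide +kernel

theorem k3B : ck [6] [22, 7] [20, 23] [false, false, true, false, true, false, true, false, true, true]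
    [false, false, true, false, false, true, false, true] 3 = true := by decide +kernel

theorem k5B : ck [7] [19, 22, 21] [27, 23, 18] [false, true] [false, false, true] 3 = true := by decide +kernel

theorem k5C : ck [8] [19, 23] [22, 18] [false, true] [false, false, true] 2 = true := by decide +kernel

theorem k5A : ck [7, 7, 9] [10, 10] [26, 26] [false, true] [false, false, true] 1 = true := by decide +kernel

theorem k7B : ck [10] [22] [23] [false, false, true, false, true]
    [false, false, true, false, true, false, true, true] 1 = true := by decide +kernel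

theorem k7A : ck [11] [7] [20] [false, true, false, true, true] [false, false, true, false, true] 2 = true := by
  decide +kernel

/-! ### involutions inverting an element of order eleven -/

/-- the check -/
def ci (tw gw gi : List ℕ) (k : ℕ) : Bool :=
  (((neP M tw 1 && relP M tw 2) && relP M (gi ++ gw) 1) && relP M (sub tw (gi ++ tw ++ gw) [false, true]) (k * 11)) &&
    neP M (sub tw (gi ++ tw ++ gw) [false, true]) k

theorem inv_of_ci {tw gw gi : List ℕ} {k : ℕ} (h : ci tw gw gi k = true) :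
    V e tw ≠ 1 ∧ V e tw * V e tw = 1 ∧ ∃ g : Co1, (V e tw * (g * V e tw * g⁻¹)) ^ (k * 11) = 1 ∧
      (V e tw * (g * V e tw * g⁻¹)) ^ k ≠ 1 := by
  unfold ci at h
  simp only [Bool.and_eq_true] at h
  obtain ⟨⟨⟨⟨h1, h2⟩, h3⟩, h4⟩, h5⟩ := h
  have g1 := pow_ne_one_of_neP hM h1
  have g2 := pow_eq_one_of_relP hM h2
  have g4 := pow_eq_one_of_relP hM h4
  have g5 := pow_ne_one_of_neP hM h5
  rw [pow_one] at g1
  rw [pow_two] at g2
  rw [sub_cons, sub_cons, sub_nil, mul_one, if_neg (by simp), if_pos rfl, V_conj h3] at g4 g5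
  exact ⟨g1, g2, V e gw, g4, g5⟩

theorem i2C : ci [1] [21, 22] [23, 27] 3 = true := by decide +kernel

theorem i2B : ci [2] [18] [19] 1 = true := by decide +kernel

/-! ### the subgroup `A₄` for 3A -/

/-- the word `c⁻¹ g c g⁻¹` -/
def aw : List ℕ := sub [3] ([25, 23, 19] ++ [3] ++ [18, 22, 24]) [false, false, true]

theorem sq_neg {w : List ℕ} (h : Nat.beq (itr M w 2 Eb) En = true) : G e w ^ 2 = Co0Basic.negCo0 := by
  have hs : ∀ g : Co0, Sm ((g.1 CoOneType.CoEval.beta : leechLattice) : GolayPt → ℤ) := smO_beta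
  have h1 := Nat.eq_of_beq_eq_true h
  rw [itr_beta hM, ← E_negbeta] at h1
  have hb : Sm (vec betaL) := smO_beta 1
  have hnb : Sm (vec negbetaL) := by
    rw [vec_negbetaL]
    intro p
    rw [Pi.neg_apply, abs_neg]
    exact hb p
  have h2 := E_inj (hs _) hnb h1
  apply eq_of_fix
  apply Subtype.ext
  rw [h2, Co0Basic.negCo0_apply, vec_negbetaL]
  rfl

theorem aw_sq : G e aw ^ 2 = Co0Basic.negCo0 := sq_neg (by decide +kernel)

theorem aw_ne : V e aw ≠ 1 := by
  have h := pow_ne_one_of_neP hM (w := aw) (n := 1) (by decide +kernel)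
  rwa [pow_one] at h

theorem aw_mul : V e aw * V e aw = 1 := by
  have h := pow_eq_one_of_relP hM (w := aw) (n := 2) (by decide +kernel)
  rwa [pow_two] at h

theorem aw_three : (V e aw * V e [3]) ^ 3 = 1 := by
  have h := pow_eq_one_of_relP hM (w := [3] ++ aw) (n := 3) (by decide +kernel)
  rwa [V_append] at h

/-- the involution is in the class 2B -/
theorem isConj_aw : IsConj (pr (e 2)) (V e aw) := by
  have h2 : e 2 * e 2 = Co0Mono.signCo0 SporadicA.Co1Simple.allOne := by
    rw [← CoOneType.ClosingFacts.neg_eq]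
    exact BpSevenCo.Data.h0_sq
  have h3 : G e aw * G e aw = Co0Mono.signCo0 SporadicA.Co1Simple.allOne := by
    rw [← CoOneType.ClosingFacts.neg_eq, ← pow_two]
    exact aw_sq
  obtain ⟨k, hk⟩ := CoOneType.ClosingMain.a1' _ h2
  obtain ⟨g, hg⟩ := CoOneType.ClosingMain.a1' _ h3
  refine isConj_iff.2 ⟨pr (g⁻¹ * k), ?_⟩
  have h4 : (g⁻¹ * k) * e 2 * (g⁻¹ * k)⁻¹ = G e aw := by
    calc (g⁻¹ * k) * e 2 * (g⁻¹ * k)⁻¹ = g⁻¹ * (k * e 2 * k⁻¹) * g := by group
      _ = g⁻¹ * (g * G e aw * g⁻¹) * g := by rw [hk, hg]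
      _ = G e aw := by group
  show _ = pr (G e aw)
  rw [← h4]
  simp only [map_mul, map_inv]

end Cfsg.Agent.H171.RG.Co1
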