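import Cfsg.Agent.H171.RG.Fix
import Cfsg.Agent.H171.RG.Co1Cert
import Cfsg.Agent.H171.RG.Co1Index
import Cfsg.Agent.H31.RC.Spor.Gen
import Cfsg.Agent.H257.Cov.LinCo
import Cfsg.Agent.KFacts.Co1.InCo1

/-!
# S3509, sporadic block: `Co1` (helper171)

`rc_co1` : every automorphism of `Co1` has the regular cycle property.  A cover with an element of 2A dies by rule A
(`O₂(C(z)) = 2^(1+8)`); the other elements of prime order have small fixed point ratios: 2B, 2C invert an element of order 11,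
3A is in `A₄` with involutions in 2B, the other classes by two conjugates generating `Co1`; no proper subgroup of index less
than 1771.
-/

set_option autoImplicit false

namespace Cfsg.Agent.H171.RG.Co1

open Cfsg Subgroup Cfsg.Agent.H106.RC Cfsg.Agent.H345.RG
open Cfsg.Agent.H940.Eng (Base)
open Cfsg.Agent.H861.Gen.CoOne (V_one wt_o wt_d hM e)
open Cfsg.Agent.H861.Gen.CoEv (V pow_eq_one_of_relP)
open Cfsg.Agent.CoOneType.CoEval (pr)
open Cfsg.Agent.H147.Fpr.CoOne (fin simple card known11 known13 known23)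
open Cfsg.Spor (Co1)

/-- the bounds -/
def β : ℕ → ℚ
  | 2 => 13 / 100
  | 3 => 38 / 100
  | 5 => 38 / 100
  | 7 => 42 / 100
  | 11 => 4 / 100
  | 13 => 18 / 100
  | _ => 2 / 100

theorem β_nonneg (p : ℕ) : 0 ≤ β p := by
  unfold β
  split <;> norm_num

/-! ### orders 11, 13, 23 -/

theorem cent11 {x : Co1} (hx : orderOf x = 11) : Nat.card ↥(centralizer ({x} : Set Co1)) = 66 := by
  rw [known11.cent x hx]

theorem cent23 {x : Co1} (hx : orderOf x = 23) : Nat.card ↥(centralizer ({x} : Set Co1)) = 23 := by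
  rw [known23.cent x hx]

theorem cent13 {x : Co1} (hx : orderOf x = 13) : Nat.card ↥(centralizer ({x} : Set Co1)) ∣ 312 := by
  rcases known13 with h | h
  · rw [h.cent x hx]; norm_num
  · rw [h.cent x hx]

theorem fb11 (B : Base) {x : Co1} (hx : orderOf x = 11) : FB Co1 x (66 / 1771) := by
  have := fin
  exact_mod_cast FB.F1 (m := 1771) (c := 66) (by norm_num) (minIx B) (cent11 hx).le

theorem fb13 (B : Base) {x : Co1} (hx : orderOf x = 13) : FB Co1 x (312 / 1771) := by
  have := fin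
  exact_mod_cast FB.F1 (m := 1771) (c := 312) (by norm_num) (minIx B) (Nat.le_of_dvd (by norm_num) (cent13 hx))

theorem fb23 (B : Base) {x : Co1} (hx : orderOf x = 23) : FB Co1 x (23 / 1771) := by
  have := fin
  exact_mod_cast FB.F1 (m := 1771) (c := 23) (by norm_num) (minIx B) (cent23 hx).le

/-! ### involutions -/

theorem fb_inv (B : Base) {tw gw gi : List ℕ} {k : ℕ} (h : ci tw gw gi k = true) : FB Co1 (V e tw) (66 / 1771 + 1 / 11) := by
  have : Fact (Nat.Prime 11) := ⟨by norm_num⟩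
  obtain ⟨-, h2, g, h3, h4⟩ := inv_of_ci h
  have h5 : orderOf ((V e tw * (g * V e tw * g⁻¹)) ^ k) = 11 := orderOf_eq_prime (by rw [← pow_mul, h3]) h4
  have h6 := FB.inv (x := V e tw) (x' := g * V e tw * g⁻¹) (k := k) (r := 11) (by norm_num) (by norm_num) h2 (by
    calc g * V e tw * g⁻¹ * (g * V e tw * g⁻¹) = g * (V e tw * V e tw) * g⁻¹ := by group
      _ = 1 := by rw [h2]; group) h3 (fb11 B h5)
  exact_mod_cast h6

theorem fb2C (B : Base) : FB Co1 (pr (e 1)) (66 / 1771 + 1 / 11) := by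
  have h := fb_inv B i2C
  rwa [V_one] at h

theorem fb2B (B : Base) : FB Co1 (pr (e 2)) (66 / 1771 + 1 / 11) := by
  have h := fb_inv B i2B
  rwa [V_one] at h

/-- the class 2A -/
def IsA (x : Co1) : Prop := IsConj (CoOneType.ClosingFacts.mk (SporadicA.Co0Mono.signCo0 (Co2Type.Mono.cd 4282144))) x

open Cfsg.Agent.CoOneType.ClosingFacts Cfsg.Agent.CoOneType.ClosingMain in
theorem fb2 (B : Base) {x : Co1} (hx : orderOf x = 2) : IsA x ∨ FB Co1 x (13 / 100) := by
  have hx2 : x * x = 1 := by rw [← pow_two, ← hx]; exact pow_orderOf_eq_one x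
  have hx1 : x ≠ 1 := by
    rintro rfl
    rw [orderOf_one] at hx
    omega
  have hb : (66 / 1771 + 1 / 11 : ℚ) ≤ 13 / 100 := by norm_num
  rcases co1_cases _ _ a1 a1' wt_o wt_d x hx2 hx1 with h | h | ⟨t, rfl, g, hg⟩
  · exact Or.inl h
  · exact Or.inr (((fb2C B).isConj h).mono hb)
  · right
    have h2 : BpSevenCo.Data.e 4 * BpSevenCo.Data.e 4 = SporadicA.Co0Mono.signCo0 SporadicA.Co1Simple.allOne := by
      rw [← neg_eq]
      exact BpSevenCo.Data.h0_sq
    obtain ⟨k, hk⟩ := a1' _ h2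
    have h3 : IsConj (pr (e 2)) (pr t) := by
      refine isConj_iff.2 ⟨pr (g⁻¹ * k), ?_⟩
      have h4 : (g⁻¹ * k) * e 2 * (g⁻¹ * k)⁻¹ = t := by
        calc (g⁻¹ * k) * BpSevenCo.Data.e 4 * (g⁻¹ * k)⁻¹ = g⁻¹ * (k * BpSevenCo.Data.e 4 * k⁻¹) * g := by group
          _ = g⁻¹ * (g * t * g⁻¹) * g := by rw [hk, hg]
          _ = t := by group
      rw [← h4]
      simp only [map_mul, map_inv]
    exact ((fb2B B).isConj h3).mono hb

/-! ### orders 3, 5, 7 -/

theorem fb_two (B : Base) {cw gw gi : List ℕ} {w23 w13 : List Bool} {k p : ℕ} (hp : p.Prime) (h : ck cw gw gi w23 w13 k = true)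
    (ho : H861.Gen.CoEv.relP H861.Gen.CoOne.M cw p = true) : FB Co1 (V e cw) (1 - p * (1 - 1 / 1771) / (2 * (p - 1))) := by
  have := fin
  obtain ⟨h1, h2⟩ := two_of_ck B h
  exact_mod_cast FB.two (m := 1771) (by norm_num) (minIx B) hp (pow_eq_one_of_relP hM ho) h1 h2

theorem fb3A (B : Base) : FB Co1 (pr (e 3)) (66 / 1771 + 1 / 11 + 1 / 4) := by
  have h := FB.A4 (x := V e [3]) (a := V e aw) (pow_eq_one_of_relP hM (w := [3]) (n := 3) (by decide +kernel)) aw_mul aw_ne
    aw_three ((fb2B B).isConj isConj_aw)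
  rwa [V_one] at h

theorem fb3 (B : Base) {x : Co1} (hx : orderOf x = 3) : FB Co1 x (38 / 100) := by
  obtain ⟨c, hc, g, hg⟩ := LThreeCo1.Ranks.classes hx
  have hcx : IsConj x _ := isConj_iff.2 ⟨g, hg⟩
  refine FB.isConj ?_ hcx.symm
  rcases hc with rfl | rfl | rfl | rfl
  · exact (fb3A B).mono (by norm_num)
  · have h1 := fb_two B (p := 3) (by norm_num) k3C (by decide +kernel)
    rw [V_one] at h1
    exact h1.mono (by norm_num)
  · have h1 := fb_two B (p := 3) (by norm_num) k3D (by decide +kernel)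
    rw [V_one] at h1
    exact h1.mono (by norm_num)
  · have h1 := fb_two B (p := 3) (by norm_num) k3B (by decide +kernel)
    rw [V_one] at h1
    exact h1.mono (by norm_num)

theorem fb5 (B : Base) {x : Co1} (hx : orderOf x = 5) : FB Co1 x (38 / 100) := by
  rcases CoFive.Ranks.main_co1 hx with ⟨h, -⟩ | ⟨h, -⟩ | ⟨h, -⟩
  · refine FB.isConj ?_ h.symm
    have h1 := fb_two B (p := 5) (by norm_num) k5B (by decide +kernel)
    rw [V_one] at h1
    exact h1.mono (by norm_num)
  · refine FB.isConj ?_ h.symm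
    have h1 := fb_two B (p := 5) (by norm_num) k5C (by decide +kernel)
    rw [V_one] at h1
    exact h1.mono (by norm_num)
  · refine FB.isConj ?_ h.symm
    have h1 := fb_two B (p := 5) (by norm_num) k5A (by decide +kernel)
    have h2 : V e [7, 7, 9] = (QuotientGroup.mk CoFive.Class.r0 : Co1) := by
      show pr (H861.Gen.CoEv.G e [7, 7, 9]) = pr CoFive.Class.r0
      congr 1
    rw [h2] at h1
    exact h1.mono (by norm_num)

theorem fb7 (B : Base) {x : Co1} (hx : orderOf x = 7) : FB Co1 x (42 / 100) := by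
  rcases CpAutMSeven.RanksH.main hx with h | ⟨h, -⟩
  · obtain ⟨g, i, hi, hg⟩ := BpSevenCo.Conj.conj_pow hx h
    have h1 := fb_two B (p := 7) (by norm_num) k7A (by decide +kernel)
    rw [V_one] at h1
    have h2 : orderOf (BpSevenCo.Conj.x) = 7 := by
      have : Fact (Nat.Prime 7) := ⟨by norm_num⟩
      refine orderOf_eq_prime BpSevenCo.Conj.x_pow ?_
      intro h3
      rw [h3, one_pow] at hg
      have h4 : x = 1 := by
        calc x = g⁻¹ * (g * x * g⁻¹) * g := by group
          _ = 1 := by rw [hg]; group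
      rw [h4, orderOf_one] at hx
      omega
    have h3 : Nat.Coprime i (orderOf BpSevenCo.Conj.x) := by
      rw [h2, Nat.coprime_comm]
      exact (Nat.Prime.coprime_iff_not_dvd (by norm_num)).2 fun h3 => hi (Nat.mod_eq_zero_of_dvd h3)
    obtain ⟨m, hm⟩ := exists_pow_eq_self_of_coprime h3
    have h4 : BpSevenCo.Conj.x ∈ zpowers (g * x * g⁻¹) := by
      rw [hg]
      exact Subgroup.mem_zpowers_iff.2 ⟨(m : ℤ), by rw [zpow_natCast]; exact hm⟩
    have h5 := FB.of_mem h1 h4
    have h6 : IsConj x (g * x * g⁻¹) := isConj_iff.2 ⟨g, rfl⟩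
    exact (h5.isConj h6.symm).mono (by norm_num)
  · refine FB.isConj ?_ h.symm
    have h1 := fb_two B (p := 7) (by norm_num) k7B (by decide +kernel)
    rw [V_one] at h1
    have h2 : CpAutMSeven.RanksH.s0 = pr (CpAutMSeven.Mat.e 0) := by
      rw [CpAutMSeven.RanksH.s0, CpAutMSeven.RanksH.r7_eq]
      rfl
    rw [h2]
    exact h1.mono (by norm_num)

/-! ### the assembly -/

theorem prime_cases {p : ℕ} (hp : p.Prime) (hd : p ∣ Nat.card Co1) :
    p = 2 ∨ p = 3 ∨ p = 5 ∨ p = 7 ∨ p = 11 ∨ p = 13 ∨ p = 23 := by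
  have h1 : p ∣ 2 ^ 21 * 3 ^ 9 * 5 ^ 4 * 7 ^ 2 * 11 * 13 * 23 := by
    rw [H861.Gen.CoOne.card] at hd
    exact hd.trans (by norm_num)
  have key : ∀ q : ℕ, q.Prime → p ∣ q → p = q := fun q hq h => (Nat.prime_dvd_prime_iff_eq hp hq).1 h
  rcases hp.dvd_mul.1 h1 with h1 | h1
  · rcases hp.dvd_mul.1 h1 with h1 | h1
    · rcases hp.dvd_mul.1 h1 with h1 | h1
      · rcases hp.dvd_mul.1 h1 with h1 | h1
        · rcases hp.dvd_mul.1 h1 with h1 | h1
          · rcases hp.dvd_mul.1 h1 with h1 | h1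
            · exact Or.inl (key 2 (by norm_num) (hp.dvd_of_dvd_pow h1))
            · exact Or.inr (Or.inl (key 3 (by norm_num) (hp.dvd_of_dvd_pow h1)))
          · exact Or.inr (Or.inr (Or.inl (key 5 (by norm_num) (hp.dvd_of_dvd_pow h1))))
        · exact Or.inr (Or.inr (Or.inr (Or.inl (key 7 (by norm_num) (hp.dvd_of_dvd_pow h1)))))
      · exact Or.inr (Or.inr (Or.inr (Or.inr (Or.inl (key 11 (by norm_num) h1)))))
    · exact Or.inr (Or.inr (Or.inr (Or.inr (Or.inr (Or.inl (key 13 (by norm_num) h1))))))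
  · exact Or.inr (Or.inr (Or.inr (Or.inr (Or.inr (Or.inr (key 23 (by norm_num) h1))))))

theorem fb (B : Base) (p : ℕ) (x : Co1) (hp : p.Prime) (hx : x ^ p = 1) (hx1 : x ≠ 1) : IsA x ∨ FB Co1 x (β p) := by
  have := fin
  have := Fact.mk hp
  have ho : orderOf x = p := orderOf_eq_prime hx hx1
  have hd : p ∣ Nat.card Co1 := by rw [← ho]; exact orderOf_dvd_natCard x
  rcases prime_cases hp hd with rfl | rfl | rfl | rfl | rfl | rfl | rfl
  · exact fb2 B ho
  · exact Or.inr (fb3 B ho)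
  · exact Or.inr (fb5 B ho)
  · exact Or.inr (fb7 B ho)
  · exact Or.inr ((fb11 B ho).mono (by norm_num [β]))
  · exact Or.inr ((fb13 B ho).mono (by norm_num [β]))
  · exact Or.inr ((fb23 B ho).mono (by norm_num [β]))

/-- covers with an element of 2A -/
theorem ruleTwoA (Ω : Type) [Finite Ω] [Nonempty Ω] [MulAction Co1 Ω] (hE : Env Co1 Ω (⊤ : Subgroup Co1)) (ι : Type) [Finite ι]
    (x : ι → Co1) (r : ι → ℕ) (hx : PF x r) (hc : Cov Ω x) (i : ι) (hi : IsA (x i)) : False := by
  have := fin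
  obtain ⟨g, hg⟩ := isConj_iff.1 hi
  have L := H31.RC.Spor.Large.conj (KFacts.Co1.InCo1.large wt_o) g
  rw [hg] at L
  have hri : r i = 2 := by
    have := Fact.mk (hx.prime i)
    have h1 : orderOf (x i) = r i := orderOf_eq_prime (hx.pow i) (hx.ne i)
    have h2 : orderOf (x i) = 2 := orderOf_eq_prime (by rw [pow_two]; exact L.z_sq) (hx.ne i)
    omega
  exact H31.RC.Spor.ruleA (fun t ht => hE.exists_move ht) hx hc L (fun j => hx.comm j i)
    (fun j hj => by rw [hx.inj (hj.trans hri.symm)])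

theorem sum_le {s T : Finset ℕ} (h : s ⊆ T) (hT : ∑ p ∈ T, β p < 1) : ∑ p ∈ s, β p < 1 :=
  (Finset.sum_le_sum_of_subset_of_nonneg h fun p _ _ => β_nonneg p).trans_lt hT

/-- the sums over the sets of primes of elements of squarefree order -/
theorem sums (s : Finset ℕ) (hp : ∀ p ∈ s, p.Prime) (h2 : 2 ≤ s.card) (hg : ∃ g : Co1, orderOf g = ∏ p ∈ s, p) :
    ∑ p ∈ s, β p < 1 := by
  have := fin
  obtain ⟨g, hg⟩ := hg
  have hd : ∀ p ∈ s, p ∣ orderOf g := fun p h => by rw [hg]; exact Finset.dvd_prod_of_mem _ h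
  have hps : ∀ p ∈ s, p = 2 ∨ p = 3 ∨ p = 5 ∨ p = 7 ∨ p = 11 ∨ p = 13 ∨ p = 23 := fun p h =>
    prime_cases (hp p h) ((hd p h).trans (orderOf_dvd_natCard g))
  -- the order divides the order of the centralizer of a power
  have key : ∀ q ∈ s, ∃ y : Co1, orderOf y = q ∧ orderOf g ∣ Nat.card ↥(centralizer ({y} : Set Co1)) := by
    intro q hq
    refine ⟨g ^ (orderOf g / q), ?_, ?_⟩
    · exact orderOf_pow_orderOf_div (orderOf_pos g).ne' (hd q hq)
    · have h1 : g ∈ centralizer ({g ^ (orderOf g / q)} : Set Co1) :=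
        mem_centralizer_singleton_iff.2 ((Commute.refl g).pow_right _).eq
      have h2 : orderOf (⟨g, h1⟩ : centralizer ({g ^ (orderOf g / q)} : Set Co1)) = orderOf g := Subgroup.orderOf_mk _ _
      have h3 := orderOf_dvd_natCard (⟨g, h1⟩ : centralizer ({g ^ (orderOf g / q)} : Set Co1))
      rwa [h2] at h3
  by_cases h23 : 23 ∈ s
  · exfalso
    obtain ⟨y, hy, hyd⟩ := key 23 h23
    rw [cent23 hy] at hyd
    have h3 : s ⊆ {23} := by
      intro p hps'
      rw [Finset.mem_singleton]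
      exact (Nat.prime_dvd_prime_iff_eq (hp p hps') (by norm_num)).1 ((hd p hps').trans hyd)
    have h4 := Finset.card_le_card h3
    rw [Finset.card_singleton] at h4
    omega
  by_cases h11 : 11 ∈ s
  · obtain ⟨y, hy, hyd⟩ := key 11 h11
    rw [cent11 hy] at hyd
    refine sum_le (T := {2, 3, 11}) ?_ (by norm_num [β])
    intro p hps'
    have h3 := (hd p hps').trans hyd
    rcases hps p hps' with rfl | rfl | rfl | rfl | rfl | rfl | rfl
    all_goals first | (simp; done) | (exact absurd h3 (by norm_num))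
  by_cases h13 : 13 ∈ s
  · obtain ⟨y, hy, hyd⟩ := key 13 h13
    refine sum_le (T := {2, 3, 13}) ?_ (by norm_num [β])
    intro p hps'
    have h3 := ((hd p hps').trans hyd).trans (cent13 hy)
    rcases hps p hps' with rfl | rfl | rfl | rfl | rfl | rfl | rfl
    all_goals first | (simp; done) | (exact absurd h3 (by norm_num))
  have hsub : ∀ p ∈ s, p = 2 ∨ p = 3 ∨ p = 5 ∨ p = 7 := by
    intro p hps'
    rcases hps p hps' with rfl | rfl | rfl | rfl | rfl | rfl | rfl
    · simp
    · simp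
    · simp
    · simp
    · exact absurd hps' h11
    · exact absurd hps' h13
    · exact absurd hps' h23
  by_cases h3 : 3 ∈ s
  swap
  · refine sum_le (T := {2, 5, 7}) ?_ (by norm_num [β])
    intro p hps'
    rcases hsub p hps' with rfl | rfl | rfl | rfl
    all_goals first | (simp; done) | (exact absurd hps' h3)
  by_cases h5 : 5 ∈ s
  swap
  · refine sum_le (T := {2, 3, 7}) ?_ (by norm_num [β])
    intro p hps'
    rcases hsub p hps' with rfl | rfl | rfl | rfl
    all_goals first | (simp; done) | (exact absurd hps' h5)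
  by_cases h7 : 7 ∈ s
  swap
  · refine sum_le (T := {2, 3, 5}) ?_ (by norm_num [β])
    intro p hps'
    rcases hsub p hps' with rfl | rfl | rfl | rfl
    all_goals first | (simp; done) | (exact absurd hps' h7)
  exfalso
  have h105 : 105 ∣ orderOf g := by
    rw [hg]
    have h8 : ({3, 5, 7} : Finset ℕ) ⊆ s := by
      intro p hp'
      simp only [Finset.mem_insert, Finset.mem_singleton] at hp'
      rcases hp' with rfl | rfl | rfl
      · exact h3
      · exact h5
      · exact h7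
    have h9 := Finset.prod_dvd_prod_of_subset ({3, 5, 7} : Finset ℕ) s (fun p => p) h8
    have h10 : ∏ p ∈ ({3, 5, 7} : Finset ℕ), p = 105 := by decide
    rwa [h10] at h9
  exact H257.Cov.LinCo.no_105 (g ^ (orderOf g / 105)) (orderOf_pow_orderOf_div (orderOf_pos g).ne' h105)

theorem noCov (B : Base) : NoCov Co1 := by
  have := fin
  refine noCov_of_split (fun α => ?_) IsA β (fun Ω _ _ _ hE ι _ x r hx hc i hi => ruleTwoA Ω hE ι x r hx hc i hi)
    (fun p x hp hx hx1 => fb B p x hp hx hx1) sums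
  have h : (MulAut.conj : Co1 →* MulAut Co1).range = ⊤ := Subgroup.index_eq_one.1 S2069.result
  have h1 : α ∈ (MulAut.conj : Co1 →* MulAut Co1).range := by rw [h]; exact mem_top α
  obtain ⟨s, hs⟩ := h1
  exact ⟨s, hs.symm⟩

end Cfsg.Agent.H171.RG.Co1

namespace Cfsg.Agent.H171.RG

open Cfsg Cfsg.Agent.H106.RC

/-- **the row `Co1` of S3509** -/
theorem rc_co1 {T : Type} [Group T] [Finite T] (B : Cfsg.Agent.H940.Eng.Base) (h : Spor.IsoCo1 T) : RC T := by
  have := H147.Fpr.CoOne.fin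
  obtain ⟨e⟩ := h
  refine RC.congr e.symm (rc_of_noCov H147.Fpr.CoOne.simple ?_ (Co1.noCov B))
  intro hc
  have h1 : Subgroup.center Spor.Co1 = ⊤ := by
    rw [eq_top_iff]
    intro x _
    exact Subgroup.mem_center_iff.2 fun g => hc.is_comm.comm g x
  rw [H861.Gen.CoOne.center_eq] at h1
  have h2 := H147.Fpr.CoOne.simple
  have h3 : Nontrivial Spor.Co1 := h2.toNontrivial
  exact bot_ne_top h1

end Cfsg.Agent.H171.RG
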